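import Mathlib.RingTheory.Ideal.KrullsHeightTheorem
import Mathlib.RingTheory.Ideal.MinimalPrime.Noetherian
import Mathlib.RingTheory.Jacobson.Ring
import Mathlib.RingTheory.Spectrum.Prime.Topology
import Mathlib.RingTheory.KrullDimension.Basic
import Mathlib.RingTheory.Localization.Away.AdjoinRoot

/-!
Domains with a localisation at one element which is a field (Artin–Tate).
-/

universe u

open PrimeSpectrum

namespace GrothLib.ArtinTate

variable {B : Type u} [CommRing B] [IsDomain B]

/-- `B_f` is a field iff every nonzero prime contains `f`. -/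
theorem isField_away_iff {f : B} (hf : f ≠ 0) :
    IsField (Localization.Away f) ↔ ∀ P : Ideal B, P.IsPrime → P ≠ ⊥ → f ∈ P := by
  have hle : Submonoid.powers f ≤ nonZeroDivisors B := powers_le_nonZeroDivisors_of_noZeroDivisors hf
  haveI : IsDomain (Localization.Away f) := IsLocalization.isDomain_localization hle
  have hinj : Function.Injective (algebraMap B (Localization.Away f)) := IsLocalization.injective _ hle
  constructor
  · intro hF P hP hne
    by_contra hfP
    have hdisj : Disjoint (Submonoid.powers f : Set B) (P : Set B) :=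
      Set.disjoint_left.2 fun x hx hxP => by
        obtain ⟨n, rfl⟩ := hx
        exact hfP (hP.mem_of_pow_mem n hxP)
    have hPm := IsLocalization.isPrime_of_isPrime_disjoint (Submonoid.powers f) (Localization.Away f) P hP hdisj
    letI := hF.toField
    rcases Ideal.eq_bot_or_top (P.map (algebraMap B (Localization.Away f))) with h | h
    · exact hne ((Ideal.map_eq_bot_iff_of_injective hinj).1 h)
    · exact hPm.ne_top h
  · intro h
    by_contra hF
    obtain ⟨Q, hQne, hQ⟩ := Ring.not_isField_iff_exists_prime.1 hF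
    have hc : Q.comap (algebraMap B (Localization.Away f)) ≠ ⊥ := fun e => by
      refine hQne ?_
      rw [← IsLocalization.map_under (Submonoid.powers f) (Localization.Away f) Q, Ideal.under_def, e,
        Ideal.map_bot]
    have hfQ := h _ (Ideal.comap_isPrime _ Q) hc
    exact hQ.ne_top (Ideal.eq_top_of_isUnit_mem _ hfQ
      (IsLocalization.Away.algebraMap_isUnit (S := Localization.Away f) f))

/-- `B_f` is a field for some `f` iff the generic point is open. -/
theorem exists_isField_away_iff_isOpen :
    (∃ f : B, f ≠ 0 ∧ IsField (Localization.Away f)) ↔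
      IsOpen ({⟨⊥, Ideal.bot_prime⟩} : Set (PrimeSpectrum B)) := by
  constructor
  · rintro ⟨f, hf, hF⟩
    convert (basicOpen f).isOpen
    ext p
    rw [Set.mem_singleton_iff, SetLike.mem_coe, mem_basicOpen]
    constructor
    · rintro rfl
      simpa using hf
    · intro hp
      refine PrimeSpectrum.ext (not_not.1 fun hne => hp ((isField_away_iff hf).1 hF _ p.2 hne))
  · intro h
    obtain ⟨_, ⟨f, rfl⟩, hmem, hsub⟩ :=
      isTopologicalBasis_basic_opens.exists_subset_of_mem_open (Set.mem_singleton _) h
    refine ⟨f, fun e => ?_, (isField_away_iff fun e => ?_).2 fun P hP hne => ?_⟩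
    · rw [SetLike.mem_coe, mem_basicOpen, e] at hmem
      exact hmem (Submodule.zero_mem _)
    · rw [SetLike.mem_coe, mem_basicOpen, e] at hmem
      exact hmem (Submodule.zero_mem _)
    · by_contra hfP
      exact hne (congrArg PrimeSpectrum.asIdeal
        (hsub (show (⟨P, hP⟩ : PrimeSpectrum B) ∈ (basicOpen f : Set _) from (mem_basicOpen f _).2 hfP)))

/-- A field which is a finitely generated algebra over a domain. -/
theorem exists_isField_away_of_finiteType (K : Type u) [Field K] [Algebra B K]
    (hinj : Function.Injective (algebraMap B K)) [Algebra.FiniteType B K] :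
    ∃ f : B, f ≠ 0 ∧ IsField (Localization.Away f) := by
  classical
  haveI : FaithfulSMul B K := (faithfulSMul_iff_algebraMap_injective B K).2 hinj
  letI : Algebra (FractionRing B) K := FractionRing.liftAlgebra B K
  haveI : Algebra.FiniteType (FractionRing B) K := Algebra.FiniteType.of_restrictScalars_finiteType B _ K
  haveI : Module.Finite (FractionRing B) K := finite_of_finite_type_of_isJacobsonRing _ _
  haveI : Algebra.IsAlgebraic B K :=
    (IsFractionRing.comap_isAlgebraic_iff (A := B) (K := FractionRing B) (C := K)).2 inferInstance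
  obtain ⟨s, hs⟩ := ‹Algebra.FiniteType B K›.out
  choose y hy0 hy using fun x : s => (Algebra.IsAlgebraic.isAlgebraic (R := B) (x : K)).exists_integral_multiple
  let f : B := ∏ x : s, y x
  have hf : f ≠ 0 := Finset.prod_ne_zero_iff.2 fun x _ => hy0 x
  refine ⟨f, hf, ?_⟩
  have hle : Submonoid.powers f ≤ nonZeroDivisors B := powers_le_nonZeroDivisors_of_noZeroDivisors hf
  haveI : IsDomain (Localization.Away f) := IsLocalization.isDomain_localization hle
  have hu : IsUnit (algebraMap B K f) := IsUnit.mk0 _ fun e => hf (hinj (by rw [e, map_zero]))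
  let φ : Localization.Away f →+* K := IsLocalization.Away.lift f hu
  letI := φ.toAlgebra
  haveI : IsScalarTower B (Localization.Away f) K :=
    IsScalarTower.of_algebraMap_eq fun b => (IsLocalization.Away.lift_eq f hu b).symm
  have hφ : Function.Injective (algebraMap (Localization.Away f) K) := by
    rw [injective_iff_map_eq_zero]
    intro z hz
    obtain ⟨⟨b, m⟩, hzb⟩ := IsLocalization.surj (Submonoid.powers f) z
    have h1 : algebraMap B K b = 0 := by
      rw [IsScalarTower.algebraMap_apply B (Localization.Away f) K, ← hzb, map_mul, hz, zero_mul]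
    have hb : b = 0 := hinj (by rw [h1, map_zero])
    dsimp only at hzb
    rw [hb, map_zero] at hzb
    exact (IsLocalization.map_units (Localization.Away f) m).mul_left_eq_zero.1 hzb
  haveI : Algebra.IsIntegral (Localization.Away f) K := ⟨fun z => by
    have hgen : ∀ x ∈ (s : Set K), x ∈ integralClosure (Localization.Away f) K := fun x hx => by
      have h1 : IsIntegral (Localization.Away f) (y ⟨x, hx⟩ • x) := (hy ⟨x, hx⟩).tower_top
      have hu' : IsUnit (algebraMap B (Localization.Away f) (y ⟨x, hx⟩)) :=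
        isUnit_of_dvd_unit (map_dvd _ (Finset.dvd_prod_of_mem _ (Finset.mem_univ _)))
          (IsLocalization.Away.algebraMap_isUnit (S := Localization.Away f) f)
      have h2 := h1.smul (↑hu'.unit⁻¹ : Localization.Away f)
      rwa [← algebraMap_smul (Localization.Away f) (y ⟨x, hx⟩) x, smul_smul, IsUnit.val_inv_mul, one_smul] at h2
    have h : z ∈ Algebra.adjoin B (s : Set K) := hs ▸ Algebra.mem_top
    exact (Algebra.adjoin_le (S := (integralClosure (Localization.Away f) K).restrictScalars B)
      hgen) h⟩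
  exact isField_of_isIntegral_of_isField hφ (Field.toIsField K)

theorem finiteType_fractionRing_of_isField_away {f : B} (hf : f ≠ 0) (hF : IsField (Localization.Away f)) :
    Algebra.FiniteType B (FractionRing B) := by
  have hu : IsUnit (algebraMap B (FractionRing B) f) :=
    IsUnit.mk0 _ fun e => hf (IsFractionRing.injective B (FractionRing B) (by rw [e, map_zero]))
  let ψ : Localization.Away f →ₐ[B] FractionRing B :=
    { IsLocalization.Away.lift f hu with commutes' := fun b => IsLocalization.Away.lift_eq f hu b }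
  haveI := IsLocalization.Away.finitePresentation (S := Localization.Away f) f
  refine Algebra.FiniteType.of_surjective (R := B) ψ fun z => ?_
  letI := hF.toField
  obtain ⟨a, b, hb, rfl⟩ := IsFractionRing.div_surjective (A := B) z
  exact ⟨algebraMap B _ a / algebraMap B _ b,
    (map_div₀ ψ.toRingHom _ _).trans (by simp)⟩

variable [IsNoetherianRing B]

/-- Nonzero primes of a noetherian domain with `B_f` a field are minimal over `f`. -/
theorem mem_minimalPrimes_of_isField_away {f : B} (hf : f ≠ 0) (hF : IsField (Localization.Away f))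
    {P : Ideal B} [P.IsPrime] (hP : P ≠ ⊥) : P ∈ (Ideal.span {f}).minimalPrimes := by
  classical
  have hall := (isField_away_iff hf).1 hF
  have hfin := Ideal.finite_minimalPrimes_of_isNoetherianRing B (Ideal.span {f})
  obtain ⟨Q₀, hQ₀, hQ₀P⟩ := Ideal.exists_minimalPrimes_le
    ((Ideal.span_singleton_le_iff_mem P).2 (hall P ‹_› hP))
  by_contra hP'
  have hnsub : ¬ (P : Set B) ⊆ ⋃ Q ∈ (↑hfin.toFinset : Set (Ideal B)), (Q : Set B) := by
    rw [Ideal.subset_union_prime (f := fun Q => Q) Q₀ Q₀ fun Q hQ _ _ => (hfin.mem_toFinset.1 hQ).1.1]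
    rintro ⟨Q, hQ, hPQ⟩
    have hQ' := hfin.mem_toFinset.1 hQ
    refine hP' ?_
    have : P = Q := le_antisymm hPQ
      (hQ'.2 ⟨‹P.IsPrime›, (Ideal.span_singleton_le_iff_mem P).2 (hall P ‹_› hP)⟩ hPQ)
    rwa [this]
  obtain ⟨g, hgP, hg⟩ := Set.not_subset.1 hnsub
  simp only [Set.mem_iUnion, not_exists] at hg
  obtain ⟨R, hR, hRP⟩ := Ideal.exists_minimalPrimes_le ((Ideal.span_singleton_le_iff_mem P).2 hgP)
  have hg0 : g ≠ 0 := fun e => hg Q₀ (hfin.mem_toFinset.2 hQ₀) (e ▸ Submodule.zero_mem _)
  haveI := hR.1.1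
  have hgR : g ∈ R := (Ideal.span_singleton_le_iff_mem R).1 hR.1.2
  have hR0 : R ≠ ⊥ := fun e => hg0 (Ideal.mem_bot.1 (e ▸ hgR))
  obtain ⟨Q, hQ, hQR⟩ := Ideal.exists_minimalPrimes_le
    ((Ideal.span_singleton_le_iff_mem R).2 (hall R ‹_› hR0))
  haveI := hQ.1.1
  have hQ0 : Q ≠ ⊥ := fun e => hf (Ideal.mem_bot.1 (e ▸ (Ideal.span_singleton_le_iff_mem Q).1 hQ.1.2))
  have hle := Ideal.height_le_one_of_isPrincipal_of_mem_minimalPrimes (Ideal.span {g}) R hR
  rcases eq_or_lt_of_le hQR with h | h
  · exact hg Q (hfin.mem_toFinset.2 hQ) (h ▸ hgR)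
  · haveI : (⊥ : Ideal B).IsPrime := Ideal.bot_prime
    have h1 : (⊥ : Ideal B).height < Q.height := Ideal.height_strict_mono_of_isPrime_of_isPrime (bot_lt_iff_ne_bot.2 hQ0)
    have h2 : Q.height < R.height := Ideal.height_strict_mono_of_isPrime_of_isPrime h
    have h3 : (1 : ℕ∞) ≤ Q.height := Order.one_le_iff_pos.2 (lt_of_le_of_lt bot_le h1)
    exact absurd (lt_of_lt_of_le (lt_of_le_of_lt h3 h2) hle) (lt_irrefl _)

theorem isMaximal_of_isField_away {f : B} (hf : f ≠ 0) (hF : IsField (Localization.Away f))
    {P : Ideal B} [P.IsPrime] (hP : P ≠ ⊥) : P.IsMaximal := by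
  obtain ⟨M, hM, hPM⟩ := P.exists_le_maximal Ideal.IsPrime.ne_top'
  haveI := hM.isPrime
  have hM' := mem_minimalPrimes_of_isField_away hf hF (P := M) fun e => hP (le_bot_iff.1 (e ▸ hPM))
  have : P = M := le_antisymm hPM (hM'.2 ⟨‹P.IsPrime›,
    (Ideal.span_singleton_le_iff_mem P).2 ((isField_away_iff hf).1 hF P ‹_› hP)⟩ hPM)
  rwa [this]

theorem finite_primeSpectrum_of_isField_away {f : B} (hf : f ≠ 0) (hF : IsField (Localization.Away f)) :
    Finite (PrimeSpectrum B) := by
  have hfin := Ideal.finite_minimalPrimes_of_isNoetherianRing B (Ideal.span {f})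
  have : (Set.univ : Set (PrimeSpectrum B)) ⊆
      PrimeSpectrum.asIdeal ⁻¹' (insert ⊥ (Ideal.span {f}).minimalPrimes) := fun p _ => by
    by_cases h : p.asIdeal = ⊥
    · exact Or.inl h
    · exact Or.inr (mem_minimalPrimes_of_isField_away hf hF h)
  exact Set.finite_univ_iff.1 (((hfin.insert ⊥).preimage fun a _ b _ e => PrimeSpectrum.ext e).subset this)

theorem ringKrullDim_le_one_of_isField_away {f : B} (hf : f ≠ 0) (hF : IsField (Localization.Away f)) :
    ringKrullDim B ≤ 1 := by
  have := Ring.KrullDimLE.mk₁' (R := B) fun P hne hP => isMaximal_of_isField_away hf hF hne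
  simpa using Ring.krullDimLE_iff.1 this

omit [IsNoetherianRing B] in
theorem exists_isField_away_of_finite [Finite (PrimeSpectrum B)] :
    ∃ f : B, f ≠ 0 ∧ IsField (Localization.Away f) := by
  rw [exists_isField_away_iff_isOpen]
  let U := ⋃ p ∈ {p : PrimeSpectrum B | p.asIdeal ≠ ⊥}, closure {p}
  have hU : IsClosed U := (Set.toFinite _).isClosed_biUnion fun _ _ => isClosed_closure
  convert hU.isOpen_compl
  ext q
  constructor
  · rintro rfl hq
    obtain ⟨p, hp, hpq⟩ := Set.mem_iUnion₂.1 hq
    exact hp (le_bot_iff.1 ((PrimeSpectrum.le_iff_specializes p _).2 (specializes_iff_mem_closure.2 hpq)))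
  · intro hq
    refine Set.mem_singleton_iff.2 (PrimeSpectrum.ext (not_not.1 fun h => hq ?_))
    exact Set.mem_iUnion₂.2 ⟨q, h, subset_closure rfl⟩

omit [IsNoetherianRing B] in
theorem finite_primeSpectrum_of_dim_le_one [Finite (MaximalSpectrum B)] (h : ringKrullDim B ≤ 1) :
    Finite (PrimeSpectrum B) := by
  haveI : Ring.KrullDimLE 1 B := Ring.krullDimLE_iff.2 (by simpa using h)
  have : (Set.univ : Set (PrimeSpectrum B)) ⊆
      insert ⟨⊥, Ideal.bot_prime⟩ (Set.range MaximalSpectrum.toPrimeSpectrum) := fun p _ => by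
    by_cases hp : p.asIdeal = ⊥
    · exact Or.inl (PrimeSpectrum.ext hp)
    · exact Or.inr ⟨⟨p.asIdeal, p.2.isMaximal_of_ne_bot hp⟩, rfl⟩
  exact Set.finite_univ_iff.1 (((Set.finite_range _).insert _).subset this)

end GrothLib.ArtinTate
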