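import Groth.Agent.Lib.ArtinTate.Jacobson
import Mathlib.AlgebraicGeometry.AffineScheme
import Mathlib.AlgebraicGeometry.Noetherian
import Mathlib.Topology.Separation.Basic
import Mathlib.Topology.NoetherianSpace

/-! Locally closed points of locally noetherian schemes. -/

universe u

open AlgebraicGeometry TopologicalSpace Topology

namespace GrothLib.ArtinTate

/-- Above a locally closed point of a noetherian spectrum there are only closed points. -/
theorem eq_of_specializes_of_isLocallyClosed {A : Type u} [CommRing A] [IsNoetherianRing A]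
    {P Q R : PrimeSpectrum A} (hP : IsLocallyClosed ({P} : Set (PrimeSpectrum A))) (h₁ : P ⤳ Q) (h₂ : Q ⤳ R)
    (hne : Q ≠ P) : R = Q := by
  obtain ⟨U, C, hU, hC, hUC⟩ := hP
  have hPUC : P ∈ U ∩ C := hUC ▸ rfl
  obtain ⟨_, ⟨f, rfl⟩, hmem, hsub⟩ :=
    PrimeSpectrum.isTopologicalBasis_basic_opens.exists_subset_of_mem_open hPUC.1 hU
  have key : ∀ T : Ideal A, T.IsPrime → P.asIdeal < T → f ∈ T := fun T hT hlt => by
    by_contra hfT
    have hTC : (⟨T, hT⟩ : PrimeSpectrum A) ∈ C :=
      ((PrimeSpectrum.le_iff_specializes P ⟨T, hT⟩).1 hlt.le).mem_closed hC hPUC.2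
    have hT2 : (⟨T, hT⟩ : PrimeSpectrum A) ∈ ({P} : Set _) :=
      hUC ▸ ⟨hsub ((PrimeSpectrum.mem_basicOpen f _).2 hfT), hTC⟩
    exact hlt.ne (congrArg PrimeSpectrum.asIdeal (Set.mem_singleton_iff.1 hT2)).symm
  have hf : f ∉ P.asIdeal := (PrimeSpectrum.mem_basicOpen f _).1 hmem
  have hPQ : P.asIdeal ≤ Q.asIdeal := (PrimeSpectrum.le_iff_specializes P Q).2 h₁
  have hQR : Q.asIdeal ≤ R.asIdeal := (PrimeSpectrum.le_iff_specializes Q R).2 h₂
  have hker : RingHom.ker (Ideal.Quotient.mk P.asIdeal) ≤ Q.asIdeal := by rwa [Ideal.mk_ker]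
  haveI := Ideal.map_isPrime_of_surjective Ideal.Quotient.mk_surjective hker
  have hmax := isMaximal_of_isField_away (fun e => hf (Ideal.Quotient.eq_zero_iff_mem.1 e))
    (isField_quotient_away hf key) (P := Q.asIdeal.map (Ideal.Quotient.mk P.asIdeal)) fun e => hne
      (PrimeSpectrum.ext (le_antisymm (by
        have h := (Ideal.map_eq_bot_iff_le_ker _).1 e
        rwa [Ideal.mk_ker] at h) hPQ))
  have hQmax : Q.asIdeal.IsMaximal := by
    have h := Ideal.comap_isMaximal_of_surjective _ Ideal.Quotient.mk_surjective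
      (K := Q.asIdeal.map (Ideal.Quotient.mk P.asIdeal))
    rwa [Ideal.comap_map_of_surjective _ Ideal.Quotient.mk_surjective, ← RingHom.ker_eq_comap_bot,
      sup_eq_left.2 hker] at h
  exact PrimeSpectrum.ext (hQmax.eq_of_le R.2.ne_top hQR).symm

/-- A nonempty locally closed subset of a scheme contains a locally closed point. -/
theorem exists_isLocallyClosed_mem (X : Scheme.{u}) {Z : Set X} (hZ : IsLocallyClosed Z)
    (hne : Z.Nonempty) : ∃ y ∈ Z, IsLocallyClosed ({y} : Set X) := by
  obtain ⟨U, C, hU, hC, rfl⟩ := hZ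
  obtain ⟨x, hxU, hxC⟩ := hne
  obtain ⟨V, hV, hxV, hVU⟩ := exists_isAffineOpen_mem_and_subset (U := ⟨U, hU⟩) hxU
  haveI := isCompact_iff_compactSpace.1 hV.isCompact
  haveI : T0Space (V : Set X) := inferInstanceAs (T0Space V.toScheme)
  obtain ⟨z, hz, hzc⟩ := IsClosed.exists_closed_singleton
    (hC.preimage (continuous_subtype_val (p := fun w => w ∈ (V : Set X)))) ⟨⟨x, hxV⟩, hxC⟩
  refine ⟨z.1, ⟨hVU z.2, hz⟩, ?_⟩
  have h := hzc.isLocallyClosed.image IsInducing.subtypeVal (by rw [Subtype.range_coe]; exact V.2.isLocallyClosed)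
  rwa [Set.image_singleton] at h

variable {X : Scheme.{u}} [IsLocallyNoetherian X]

/-- Above a locally closed point there are only closed points. -/
theorem isClosed_of_specializes_of_isLocallyClosed {x y : X} (hx : IsLocallyClosed ({x} : Set X))
    (h₁ : x ⤳ y) (hne : y ≠ x) : IsClosed ({y} : Set X) := by
  refine isClosed_of_closure_subset fun z hz => ?_
  have h₂ : y ⤳ z := specializes_iff_mem_closure.2 hz
  obtain ⟨V, hV, hzV, -⟩ := exists_isAffineOpen_mem_and_subset (U := (⊤ : X.Opens)) (Opens.mem_top z)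
  have hyV : y ∈ V := h₂.mem_open V.2 hzV
  have hxV : x ∈ V := h₁.mem_open V.2 hyV
  haveI : IsNoetherianRing Γ(X, V) := IsLocallyNoetherian.component_noetherian ⟨V, hV⟩
  have he : IsInducing hV.fromSpec := hV.fromSpec.isOpenEmbedding.isInducing
  have hinj : Function.Injective hV.fromSpec := hV.fromSpec.isOpenEmbedding.injective
  obtain ⟨a, rfl⟩ : x ∈ Set.range hV.fromSpec := hV.range_fromSpec ▸ hxV
  obtain ⟨b, rfl⟩ : y ∈ Set.range hV.fromSpec := hV.range_fromSpec ▸ hyV
  obtain ⟨c, rfl⟩ : z ∈ Set.range hV.fromSpec := hV.range_fromSpec ▸ hzV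
  have ha : IsLocallyClosed (({a} : Set (Spec Γ(X, V)))) := by
    have h := hx.preimage hV.fromSpec.continuous
    rwa [← Set.image_singleton, Set.preimage_image_eq _ hinj] at h
  exact congrArg hV.fromSpec (eq_of_specializes_of_isLocallyClosed (A := Γ(X, V)) ha (he.specializes_iff.1 h₁)
    (he.specializes_iff.1 h₂) fun e => hne (congrArg hV.fromSpec e))

theorem exists_isClosed_singleton_of_isClosed {Z : Set X} (hZ : IsClosed Z) (hne : Z.Nonempty) :
    ∃ y ∈ Z, IsClosed ({y} : Set X) := by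
  obtain ⟨y, hy, hyl⟩ := exists_isLocallyClosed_mem X hZ.isLocallyClosed hne
  by_cases h : closure ({y} : Set X) ⊆ {y}
  · exact ⟨y, hy, isClosed_of_closure_subset h⟩
  · obtain ⟨z, hz, hzy⟩ := Set.not_subset.1 h
    exact ⟨z, hZ.closure_subset_iff.2 (Set.singleton_subset_iff.2 hy) hz,
      isClosed_of_specializes_of_isLocallyClosed hyl (specializes_iff_mem_closure.2 hz) hzy⟩

theorem finite_closure_of_isLocallyClosed [NoetherianSpace X] {x : X}
    (hx : IsLocallyClosed ({x} : Set X)) : (closure ({x} : Set X)).Finite := by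
  obtain ⟨U, C, hU, hC, hUC⟩ := hx
  have hxUC : x ∈ U ∩ C := hUC ▸ rfl
  have hsub : closure ({x} : Set X) ⊆ insert x (closure {x} \ U) := fun y hy => by
    by_cases hyU : y ∈ U
    · exact Or.inl (Set.mem_singleton_iff.1
        (hUC ▸ ⟨hyU, hC.closure_subset_iff.2 (Set.singleton_subset_iff.2 hxUC.2) hy⟩ : y ∈ ({x} : Set X)))
    · exact Or.inr ⟨hy, hyU⟩
  refine ((?_ : (closure {x} \ U).Finite).insert x).subset hsub
  have hD : IsClosed (closure ({x} : Set X) \ U) := isClosed_closure.sdiff hU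
  obtain ⟨S, hSf, hSc, hSi, hSU⟩ := NoetherianSpace.exists_finite_set_isClosed_irreducible hD
  rw [hSU]
  refine hSf.sUnion fun T hT => ?_
  obtain ⟨η, hη⟩ := QuasiSober.sober (hSi T hT) (hSc T hT)
  have hmem : η ∈ closure ({x} : Set X) \ U := hSU ▸ ⟨T, hT, hη.mem⟩
  rw [← hη.def, IsClosed.closure_eq (isClosed_of_specializes_of_isLocallyClosed ⟨U, C, hU, hC, hUC⟩
    (specializes_iff_mem_closure.2 hmem.1) fun e => hmem.2 (e ▸ hxUC.1))]
  exact Set.finite_singleton η

omit [IsLocallyNoetherian X] in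
theorem topologicalKrullDim_le_one {Y : Type*} [TopologicalSpace Y] [QuasiSober Y]
    (h : ∀ η : Y, closure ({η} : Set Y) = Set.univ ∨ IsClosed ({η} : Set Y)) :
    topologicalKrullDim Y ≤ 1 := by
  refine Order.krullDim_le_one_iff.2 fun T => ?_
  obtain ⟨η, hη⟩ := QuasiSober.sober T.isIrreducible T.isClosed
  rcases h η with h | h
  · exact Or.inr fun T' _ => show (T' : Set Y) ⊆ T by rw [← hη.def, h]; exact Set.subset_univ _
  · refine Or.inl fun T' hle => show (T : Set Y) ⊆ T' from ?_
    have hT : (T : Set Y) = {η} := by rw [← hη.def, h.closure_eq]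
    obtain ⟨w, hw⟩ := T'.isIrreducible.nonempty
    intro v hv
    rw [hT] at hv
    have hw' : w ∈ (T : Set Y) := hle hw
    rw [hT] at hw'
    rw [Set.mem_singleton_iff.1 hv, ← Set.mem_singleton_iff.1 hw']
    exact hw

theorem dim_closure_le_one {x : X} (hx : IsLocallyClosed ({x} : Set X)) :
    topologicalKrullDim (closure ({x} : Set X)) ≤ 1 := by
  have he : IsClosedEmbedding ((↑) : closure ({x} : Set X) → X) := isClosed_closure.isClosedEmbedding_subtypeVal
  haveI : QuasiSober (closure ({x} : Set X)) := he.quasiSober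
  refine topologicalKrullDim_le_one fun η => ?_
  by_cases h : η.1 = x
  · left
    rw [he.isInducing.closure_eq_preimage_closure_image, Set.image_singleton, h]
    exact Set.eq_univ_of_forall fun w => w.2
  · right
    rw [← Set.preimage_image_eq ({η} : Set _) Subtype.val_injective, Set.image_singleton]
    exact (isClosed_of_specializes_of_isLocallyClosed hx (specializes_iff_mem_closure.2 η.2) h).preimage
      continuous_subtype_val

end GrothLib.ArtinTate
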