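import Groth.Agent.Lib.ArtinTate.Ring
import Mathlib.RingTheory.Ideal.Quotient.Operations

/-! Jacobson rings through localisations of prime quotients. -/

universe u

namespace GrothLib.ArtinTate

variable {A : Type u} [CommRing A]

/-- `(A/q)_f` is a field when every prime strictly above `q` contains `f`. -/
theorem isField_quotient_away {q : Ideal A} [q.IsPrime] {f : A} (hf : f ∉ q)
    (h : ∀ P : Ideal A, P.IsPrime → q < P → f ∈ P) :
    IsField (Localization.Away (Ideal.Quotient.mk q f)) := by
  refine (isField_away_iff fun e => hf (Ideal.Quotient.eq_zero_iff_mem.1 e)).2 fun P hP hne => ?_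
  haveI := hP
  have hle : q ≤ P.comap (Ideal.Quotient.mk q) := fun x hx => by
    rw [Ideal.mem_comap, Ideal.Quotient.eq_zero_iff_mem.2 hx]
    exact zero_mem P
  refine h (P.comap (Ideal.Quotient.mk q)) (Ideal.comap_isPrime _ P) (lt_of_le_of_ne hle fun e => hne ?_)
  rw [← Ideal.map_comap_of_surjective _ Ideal.Quotient.mk_surjective P, ← e, Ideal.map_quotient_self]

theorem isJacobsonRing_of_no_isField_away
    (h : ∀ (p : Ideal A) [p.IsPrime], ¬ p.IsMaximal → ∀ f : A ⧸ p, f ≠ 0 → ¬ IsField (Localization.Away f)) :
    IsJacobsonRing A := by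
  rw [isJacobsonRing_iff_prime_eq]
  intro P hP
  refine le_antisymm (fun f hf => ?_) Ideal.le_jacobson
  by_contra hfP
  let S := Localization.Away f
  have hdisj : Disjoint (Submonoid.powers f : Set A) (P : Set A) :=
    Set.disjoint_left.2 fun x hx hxP => by
      obtain ⟨n, rfl⟩ := hx
      exact hfP (hP.mem_of_pow_mem n hxP)
  obtain ⟨M, hM, hPM⟩ := Ideal.exists_le_maximal _
    (IsLocalization.isPrime_of_isPrime_disjoint (Submonoid.powers f) S P hP hdisj).ne_top
  haveI := hM.isPrime
  have hPq : P ≤ M.comap (algebraMap A S) := Ideal.map_le_iff_le_comap.1 hPM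
  have hfq : f ∉ M.comap (algebraMap A S) := fun hfM =>
    hM.ne_top (Ideal.eq_top_of_isUnit_mem _ hfM (IsLocalization.Away.algebraMap_isUnit (S := S) f))
  have hqmax : ¬ (M.comap (algebraMap A S)).IsMaximal := fun hmax =>
    hfq ((sInf_le ⟨hPq, hmax⟩ : P.jacobson ≤ _) hf)
  refine h _ hqmax (Ideal.Quotient.mk _ f) (fun e => hfq (Ideal.Quotient.eq_zero_iff_mem.1 e))
    (isField_quotient_away hfq fun R hR hlt => ?_)
  by_contra hfR
  have hd : Disjoint (Submonoid.powers f : Set A) (R : Set A) :=
    Set.disjoint_left.2 fun x hx hxP => by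
      obtain ⟨n, rfl⟩ := hx
      exact hfR (hR.mem_of_pow_mem n hxP)
  have hRS := IsLocalization.isPrime_of_isPrime_disjoint (Submonoid.powers f) S R hR hd
  have hle : M ≤ R.map (algebraMap A S) := by
    rw [← IsLocalization.map_under (Submonoid.powers f) S M]
    exact Ideal.map_mono hlt.le
  have heq := hM.eq_of_le hRS.ne_top hle
  exact hlt.ne (by rw [heq, ← Ideal.under_def,
    IsLocalization.under_map_of_isPrime_disjoint (Submonoid.powers f) S hR hd])

theorem not_isField_away_of_finite_of_finiteType
    (h : ∀ (K : Type u) [Field K] [Algebra A K], Algebra.FiniteType A K → Module.Finite A K)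
    (p : Ideal A) [p.IsPrime] (hp : ¬ p.IsMaximal) (f : A ⧸ p) (hf : f ≠ 0) :
    ¬ IsField (Localization.Away f) := fun hF => hp <| by
  haveI := IsLocalization.Away.finitePresentation (S := Localization.Away f) f
  haveI : Algebra.FiniteType A (Localization.Away f) :=
    Algebra.FiniteType.trans (R := A) (S := A ⧸ p) inferInstance inferInstance
  letI : Field (Localization.Away f) := hF.toField
  haveI := h (Localization.Away f) ‹_›
  haveI : Module.Finite (A ⧸ p) (Localization.Away f) := Module.Finite.of_restrictScalars_finite A _ _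
  exact Ideal.Quotient.maximal_of_isField _ (isField_of_isIntegral_of_isField
    (IsLocalization.injective (Localization.Away f) (powers_le_nonZeroDivisors_of_noZeroDivisors hf))
    (S := Localization.Away f) (Field.toIsField _))

end GrothLib.ArtinTate
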